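import Mathlib.AlgebraicGeometry.Morphisms.Finite
import Mathlib.AlgebraicGeometry.Morphisms.Flat
import Mathlib.AlgebraicGeometry.Morphisms.Preimmersion
import Mathlib.AlgebraicGeometry.FunctionField
import Mathlib.RingTheory.Ideal.GoingUp
import Mathlib.RingTheory.Flat.FaithfullyFlat.Algebra
import Mathlib.RingTheory.Localization.Away.Basic
import Mathlib.LinearAlgebra.LinearIndependent.Basic

/-!
# A finite free cover of an open with prescribed function field
-/

set_option autoImplicit false
set_option linter.style.haveILetI false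
universe u

open CategoryTheory Limits AlgebraicGeometry TopologicalSpace

namespace Groth.Agent.FlatMor.GeomIntComp

/-- A finite extension of the fraction field of a domain is spanned by a basis with structure
constants in a localisation at one element, containing given finitely many elements. -/
theorem exists_free_order' (A : Type u) [CommRing A] [IsDomain A] (k L : Type u) [Field k] [Field L]
    [Algebra A k] [IsFractionRing A k] [Algebra k L] [FiniteDimensional k L] [Algebra A L]
    [IsScalarTower A k L] (F : Finset L) :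
    ∃ a : A, a ≠ 0 ∧ ∃ (B : Type u) (_ : CommRing B) (_ : IsDomain B) (φ : Localization.Away a →+* B)
      (ψ : B →+* L), Function.Injective φ ∧ φ.Finite ∧ φ.Flat ∧
        Function.Surjective (PrimeSpectrum.comap φ) ∧
        ψ.comp (φ.comp (algebraMap A (Localization.Away a))) = algebraMap A L ∧
        (letI := ψ.toAlgebra; IsFractionRing B L) ∧ (F : Set L) ⊆ ψ.range ∧
        (∀ q : PrimeSpectrum B, q.asIdeal.comap φ = ⊥ → q.asIdeal = ⊥) := by
  classical
  let b := Module.finBasis k L
  let n := Module.finrank k L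
  let c : (Option (Fin n × Fin n) ⊕ F) × Fin n → k := fun p =>
    match p.1 with
    | .inl none => b.repr 1 p.2
    | .inl (some ij) => b.repr (b ij.1 * b ij.2) p.2
    | .inr x => b.repr (x : L) p.2
  obtain ⟨⟨a, ha⟩, hc⟩ := IsLocalization.exist_integer_multiples (nonZeroDivisors A) Finset.univ c
  have ha0 : a ≠ 0 := nonZeroDivisors.ne_zero ha
  have hu : IsUnit (algebraMap A k a) :=
    ((map_ne_zero_iff _ (IsFractionRing.injective A k)).2 ha0).isUnit
  let C := Localization.Away a
  haveI : IsDomain C :=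
    IsLocalization.isDomain_localization (powers_le_nonZeroDivisors_of_noZeroDivisors ha0)
  let ι : C →+* k := IsLocalization.Away.lift a hu
  have hι : ι.comp (algebraMap A C) = algebraMap A k := IsLocalization.Away.lift_comp a hu
  have hιi : Function.Injective ι := by
    refine (injective_iff_map_eq_zero ι).2 fun z hz => ?_
    obtain ⟨⟨r, s⟩, hrs⟩ := IsLocalization.surj (Submonoid.powers a) z
    have h1 : algebraMap A k r = 0 := by
      rw [← hι, RingHom.comp_apply, ← hrs, map_mul, hz, zero_mul]
    rw [(injective_iff_map_eq_zero _).1 (IsFractionRing.injective A k) r h1, map_zero,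
      mul_eq_zero] at hrs
    exact hrs.resolve_right (IsLocalization.map_units C s).ne_zero
  letI : Algebra C k := ι.toAlgebra
  letI : Algebra C L := ((algebraMap k L).comp ι).toAlgebra
  haveI : IsScalarTower C k L := IsScalarTower.of_algebraMap_eq fun _ => rfl
  haveI : IsScalarTower A C k := IsScalarTower.of_algebraMap_eq fun x => (RingHom.congr_fun hι x).symm
  let p : Submodule C L := Submodule.span C (Set.range b)
  have hcC : ∀ q, ∃ z : C, ι z = c q := fun q => by
    obtain ⟨r, hr⟩ := hc q (Finset.mem_univ _)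
    refine ⟨IsLocalization.mk' C r (⟨a, Submonoid.mem_powers a⟩ : Submonoid.powers a), ?_⟩
    apply mul_left_cancel₀ hu.ne_zero
    rw [← RingHom.congr_fun hι a, RingHom.comp_apply, ← map_mul, IsLocalization.mk'_spec'_mk,
      ← RingHom.comp_apply, hι, hr]
    show a • c q = _
    exact (Algebra.smul_def a (c q)).trans (congrArg (· * c q) (RingHom.congr_fun hι a).symm)
  have hmem : ∀ x : L, (∀ i, ∃ z : C, ι z = b.repr x i) → x ∈ p := fun x hx => by
    rw [← b.sum_repr x]
    refine Submodule.sum_mem _ fun i _ => ?_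
    obtain ⟨z, hz⟩ := hx i
    rw [← hz]
    show algebraMap C k z • b i ∈ p
    rw [algebraMap_smul]
    exact Submodule.smul_mem _ _ (Submodule.subset_span ⟨i, rfl⟩)
  have h1 : (1 : L) ∈ p := hmem 1 fun i => hcC (.inl none, i)
  have hmul : ∀ x y : L, x ∈ p → y ∈ p → x * y ∈ p := fun x y hx hy => by
    induction hy using Submodule.span_induction with
    | mem y hy =>
      induction hx using Submodule.span_induction with
      | mem x hx =>
        obtain ⟨i, rfl⟩ := hx
        obtain ⟨j, rfl⟩ := hy
        exact hmem _ fun l => hcC (.inl (some (i, j)), l)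
      | zero => simp
      | add _ _ _ _ h h' => rw [add_mul]; exact add_mem h h'
      | smul r _ _ h => rw [Algebra.smul_mul_assoc]; exact Submodule.smul_mem _ _ h
    | zero => simp
    | add _ _ _ _ h h' => rw [mul_add]; exact add_mem h h'
    | smul r _ _ h => rw [Algebra.mul_smul_comm]; exact Submodule.smul_mem _ _ h
  let B : Subalgebra C L := p.toSubalgebra h1 hmul
  have li : LinearIndependent C (b : Fin n → L) :=
    LinearIndependent.restrict_scalars (by
      intro x y h
      exact hιi (by simpa [Algebra.smul_def, RingHom.algebraMap_toAlgebra] using h)) b.linearIndependent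
  let bB : Module.Basis (Fin n) C B := Module.Basis.span li
  haveI : Module.Free C B := .of_basis bB
  haveI : Module.Finite C B := .of_basis bB
  haveI : Nontrivial B := inferInstance
  haveI : Module.FaithfullyFlat C B := inferInstance
  have hφi : Function.Injective (algebraMap C B) := FaithfulSMul.algebraMap_injective C B
  haveI : IsDomain B := inferInstance
  refine ⟨a, ha0, B, inferInstance, inferInstance, algebraMap C B, B.val.toRingHom, hφi,
    RingHom.finite_algebraMap.2 inferInstance, RingHom.flat_algebraMap_iff.2 inferInstance,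
    PrimeSpectrum.comap_surjective_of_faithfullyFlat, ?_, ?_,
    fun x hx => ⟨⟨x, hmem x fun i => hcC (.inr ⟨x, hx⟩, i)⟩, rfl⟩, fun q hq => ?_⟩
  · ext x
    show algebraMap k L (ι (algebraMap A C x)) = algebraMap A L x
    rw [← RingHom.comp_apply ι, hι, ← IsScalarTower.algebraMap_apply]
  · letI := B.val.toRingHom.toAlgebra
    haveI : @FaithfulSMul B L (B.val.toRingHom.toAlgebra.toSMul) :=
      (@faithfulSMul_iff_algebraMap_injective B L _ _ B.val.toRingHom.toAlgebra).2 Subtype.val_injective
    refine @IsFractionRing.of_field B _ L _ B.val.toRingHom.toAlgebra this fun z => ?_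
    obtain ⟨s, hs⟩ := IsLocalization.exist_integer_multiples (nonZeroDivisors A) Finset.univ
      fun i => b.repr z i
    have hx : (algebraMap A L s.1) * z ∈ p := hmem _ fun i => by
      obtain ⟨r, hr⟩ := hs i (Finset.mem_univ _)
      refine ⟨algebraMap A C r, ?_⟩
      rw [← RingHom.comp_apply, hι, hr, IsScalarTower.algebraMap_apply A k L, ← Algebra.smul_def,
        map_smul, Finsupp.smul_apply, smul_eq_mul]
      exact Algebra.smul_def _ _
    have hy : algebraMap A L s.1 ∈ B := by
      rw [IsScalarTower.algebraMap_apply A k L, ← hι]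
      exact B.algebraMap_mem _
    refine ⟨⟨_, hx⟩, ⟨_, hy⟩, ?_⟩
    show z = algebraMap A L s.1 * z / algebraMap A L s.1
    rw [mul_div_cancel_left₀]
    rw [IsScalarTower.algebraMap_apply A k L, ne_eq, map_eq_zero]
    exact (map_ne_zero_iff _ (IsFractionRing.injective A k)).2 (nonZeroDivisors.ne_zero s.2)
  · exact Ideal.eq_bot_of_comap_eq_bot hq

/-- A finite extension of the fraction field of a domain is spanned by a basis with structure
constants in a localisation at one element. -/
theorem exists_free_order (A : Type u) [CommRing A] [IsDomain A] (k L : Type u) [Field k] [Field L]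
    [Algebra A k] [IsFractionRing A k] [Algebra k L] [FiniteDimensional k L] [Algebra A L]
    [IsScalarTower A k L] :
    ∃ a : A, a ≠ 0 ∧ ∃ (B : Type u) (_ : CommRing B) (_ : IsDomain B) (φ : Localization.Away a →+* B)
      (ψ : B →+* L), Function.Injective φ ∧ φ.Finite ∧ φ.Flat ∧
        Function.Surjective (PrimeSpectrum.comap φ) ∧
        ψ.comp (φ.comp (algebraMap A (Localization.Away a))) = algebraMap A L ∧
        (letI := ψ.toAlgebra; IsFractionRing B L) ∧
        (∀ q : PrimeSpectrum B, q.asIdeal.comap φ = ⊥ → q.asIdeal = ⊥) := by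
  obtain ⟨a, ha, B, _, _, φ, ψ, h₁, h₂, h₃, h₄, h₅, h₆, -, h₇⟩ := exists_free_order' A k L ∅
  exact ⟨a, ha, B, inferInstance, inferInstance, φ, ψ, h₁, h₂, h₃, h₄, h₅, h₆, h₇⟩

/-- Over an affine open of an integral scheme, a finite extension of its fraction field is the
function field of a finite flat cover of a smaller open, lying over any given finite type algebra
inside it. -/
theorem exists_cover' {S : Scheme.{u}} [IsIntegral S] {V₀ : S.Opens} (hV₀ : IsAffineOpen V₀)
    [Nonempty V₀] (k L : Type u) [Field k] [Field L] [Algebra Γ(S, V₀) k] [IsFractionRing Γ(S, V₀) k]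
    [Algebra k L] [FiniteDimensional k L] [Algebra Γ(S, V₀) L] [IsScalarTower Γ(S, V₀) k L] (R : Type u) [CommRing R] [Algebra Γ(S, V₀) R]
    [Algebra.FiniteType Γ(S, V₀) R] (r : R →ₐ[Γ(S, V₀)] L) :
    ∃ (V : S.Opens) (S' : Scheme.{u}) (h : S' ⟶ (V : Scheme.{u})) (t : Spec (CommRingCat.of L) ⟶ S')
      (ρ : S' ⟶ Spec (CommRingCat.of R)) (_ : IsIntegral S'),
      genericPoint S ∈ V ∧ IsFinite h ∧ Flat h ∧ Surjective h ∧ IsPreimmersion t ∧ Flat t ∧
      (∀ z, t z = genericPoint S') ∧
      (∀ y : S', (h ≫ V.ι) y = genericPoint S → y = genericPoint S') ∧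
      t ≫ h ≫ V.ι = Spec.map (CommRingCat.ofHom (algebraMap Γ(S, V₀) L)) ≫ hV₀.fromSpec ∧
      ρ ≫ Spec.map (CommRingCat.ofHom (algebraMap Γ(S, V₀) R)) ≫ hV₀.fromSpec = h ≫ V.ι ∧
      t ≫ ρ = Spec.map (CommRingCat.ofHom r.toRingHom) := by
  classical
  obtain ⟨s, hs⟩ := (inferInstance : Algebra.FiniteType Γ(S, V₀) R).out
  obtain ⟨a, ha, B, _, _, φ, ψ, hφi, hfin, hflat, hsurj, hcomp, hfrac, hF, hgen⟩ :=
    exists_free_order' Γ(S, V₀) k L (s.image r)
  have hψi : Function.Injective ψ := @IsFractionRing.injective B _ L _ ψ.toAlgebra hfrac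
  have hr : ∀ x, r x ∈ ψ.range := fun x => by
    have hx : x ∈ Algebra.adjoin Γ(S, V₀) (s : Set R) := hs ▸ Algebra.mem_top
    induction hx using Algebra.adjoin_induction with
    | mem y hy => exact hF (Finset.mem_image_of_mem r hy)
    | algebraMap c => rw [r.commutes, ← hcomp]; exact ⟨_, rfl⟩
    | add _ _ _ _ h h' => rw [map_add]; exact add_mem h h'
    | mul _ _ _ _ h h' => rw [map_mul]; exact mul_mem h h'
  let e := RingEquiv.ofBijective ψ.rangeRestrict
    ⟨fun x y h => hψi congr(($h : ψ.range).1), ψ.rangeRestrict_surjective⟩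
  let ρ : R →+* B := e.symm.toRingHom.comp (r.toRingHom.codRestrict ψ.range hr)
  have hρ : ψ.comp ρ = r.toRingHom := RingHom.ext fun x =>
    congr(($(e.apply_symm_apply (⟨r x, hr x⟩ : ψ.range)) : L))
  have hρ' : ρ.comp (algebraMap Γ(S, V₀) R) = φ.comp (algebraMap Γ(S, V₀) (Localization.Away a)) := by
    rw [← RingHom.cancel_left hψi, ← RingHom.comp_assoc, hρ, hcomp]
    exact r.comp_algebraMap
  haveI : IsDomain (Localization.Away a) :=
    IsLocalization.isDomain_localization (powers_le_nonZeroDivisors_of_noZeroDivisors ha)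
  let l := CommRingCat.ofHom (algebraMap Γ(S, V₀) (Localization.Away a))
  haveI : IsOpenImmersion (Spec.map l) := IsOpenImmersion.of_isLocalization a
  let o := Spec.map l ≫ hV₀.fromSpec
  haveI : Nonempty (Spec (CommRingCat.of (Localization.Away a))) :=
    inferInstanceAs (Nonempty (PrimeSpectrum (Localization.Away a)))
  have hη : o (genericPoint (Spec (CommRingCat.of (Localization.Away a)))) = genericPoint S :=
    genericPoint_eq_of_isOpenImmersion o
  have hpt : ∀ (R : Type u) [CommRing R] [IsDomain R], genericPoint (Spec (CommRingCat.of R)) =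
      (⟨⊥, Ideal.isPrime_bot⟩ : PrimeSpectrum R) := fun R _ _ => genericPoint_eq_bot_of_affine _
  letI := ψ.toAlgebra
  have hh : (Spec.map (CommRingCat.ofHom φ) ≫ o.isoOpensRange.hom) ≫ o.opensRange.ι =
      Spec.map (CommRingCat.ofHom φ) ≫ o := by
    rw [Category.assoc, Scheme.Hom.isoOpensRange_hom_ι]
  refine ⟨o.opensRange, Spec (CommRingCat.of B), Spec.map (CommRingCat.ofHom φ) ≫ o.isoOpensRange.hom,
    Spec.map (CommRingCat.ofHom ψ), Spec.map (CommRingCat.ofHom ρ), inferInstance, ⟨_, hη⟩, ?_, ?_, ?_, ?_, ?_,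
    fun z => ?_, fun y hy => ?_, ?_, ?_, ?_⟩
  · haveI : IsFinite (Spec.map (CommRingCat.ofHom φ)) := (IsFinite.SpecMap_iff _).2 hfin
    infer_instance
  · haveI : Flat (Spec.map (CommRingCat.ofHom φ)) :=
      (HasRingHomProperty.Spec_iff (P := @Flat)).2 hflat
    infer_instance
  · haveI : Surjective (Spec.map (CommRingCat.ofHom φ)) := ⟨hsurj⟩
    infer_instance
  · exact IsPreimmersion.of_isLocalization (R := B) (S := L) (nonZeroDivisors B)
  · refine (HasRingHomProperty.Spec_iff (P := @Flat)).2 ?_
    haveI : Module.Flat B L := IsLocalization.flat L (nonZeroDivisors B)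
    exact RingHom.flat_algebraMap_iff.2 inferInstance
  · rw [hpt B]
    refine PrimeSpectrum.ext ?_
    show (z : PrimeSpectrum L).asIdeal.comap ψ = ⊥
    rw [((z : PrimeSpectrum L).asIdeal.eq_bot_or_top).resolve_right
      (z : PrimeSpectrum L).isPrime.ne_top, ← RingHom.ker_eq_comap_bot, ← RingHom.injective_iff_ker_eq_bot]
    exact IsFractionRing.injective B L
  · rw [hh, Scheme.Hom.comp_apply, ← hη] at hy
    have hy' := o.isOpenEmbedding.injective hy
    rw [hpt] at hy'
    rw [hpt B]
    exact PrimeSpectrum.ext (hgen y congr($(hy').asIdeal))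
  · rw [hh, ← Spec.map_comp_assoc, ← Spec.map_comp_assoc, ← CommRingCat.ofHom_comp,
      ← CommRingCat.ofHom_comp, RingHom.comp_assoc, hcomp]
  · rw [hh, ← Spec.map_comp_assoc, ← Spec.map_comp_assoc, ← CommRingCat.ofHom_comp,
      ← CommRingCat.ofHom_comp, hρ']
  · rw [← Spec.map_comp, ← CommRingCat.ofHom_comp, hρ]

/-- Over an affine open of an integral scheme, a finite extension of its fraction field is the
function field of a finite flat cover of a smaller open. -/
theorem exists_cover {S : Scheme.{u}} [IsIntegral S] {V₀ : S.Opens} (hV₀ : IsAffineOpen V₀)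
    [Nonempty V₀] (k L : Type u) [Field k] [Field L] [Algebra Γ(S, V₀) k] [IsFractionRing Γ(S, V₀) k]
    [Algebra k L] [FiniteDimensional k L] [Algebra Γ(S, V₀) L] [IsScalarTower Γ(S, V₀) k L] :
    ∃ (V : S.Opens) (S' : Scheme.{u}) (h : S' ⟶ (V : Scheme.{u})) (t : Spec (CommRingCat.of L) ⟶ S')
      (_ : IsIntegral S'),
      genericPoint S ∈ V ∧ IsFinite h ∧ Flat h ∧ Surjective h ∧ IsPreimmersion t ∧ Flat t ∧
      (∀ z, t z = genericPoint S') ∧
      (∀ y : S', (h ≫ V.ι) y = genericPoint S → y = genericPoint S') ∧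
      t ≫ h ≫ V.ι = Spec.map (CommRingCat.ofHom (algebraMap Γ(S, V₀) L)) ≫ hV₀.fromSpec := by
  obtain ⟨V, S', h, t, -, _, h₁, h₂, h₃, h₄, h₅, h₆, h₇, h₈, h₉, -, -⟩ :=
    exists_cover' hV₀ k L Γ(S, V₀) (Algebra.ofId Γ(S, V₀) L)
  exact ⟨V, S', h, t, inferInstance, h₁, h₂, h₃, h₄, h₅, h₆, h₇, h₈, h₉⟩

end Groth.Agent.FlatMor.GeomIntComp
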