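import Groth.Agent.LimLib.FGSub
import Groth.Agent.LimLib.Props
import Mathlib.AlgebraicGeometry.Morphisms.FinitePresentation

/-!
# Finite morphisms over the algebraic closure come from a finitely generated subalgebra
-/

set_option autoImplicit false
set_option backward.isDefEq.respectTransparency false
universe u

open CategoryTheory Limits AlgebraicGeometry Opposite

namespace Groth.Agent.FlatMor.GeomIntComp

open Groth.Agent.LimLib

/-- A finite morphism of finite presentation over the base change of a scheme to an algebra comes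
from the base change to a finitely generated subalgebra. -/
theorem exists_finite_model {A : Type u} [CommRing A] (E : Type u) [CommRing E] [Algebra A E]
    {X₀ : Scheme.{u}} (f₀ : X₀ ⟶ Spec (CommRingCat.of A)) [QuasiCompact f₀] [QuasiSeparated f₀]
    {N : Scheme.{u}} (ν : N ⟶ pullback f₀ (Spec.map (CommRingCat.ofHom (algebraMap A E))))
    [IsFinite ν] [LocallyOfFinitePresentation ν] :
    ∃ (R : Subalgebra A E) (_ : R.FG) (M : Scheme.{u})
      (μ : M ⟶ pullback f₀ (Spec.map (CommRingCat.ofHom (algebraMap A R))))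
      (qN : N ⟶ M)
      (v : pullback f₀ (Spec.map (CommRingCat.ofHom (algebraMap A E))) ⟶
        pullback f₀ (Spec.map (CommRingCat.ofHom (algebraMap A R)))),
      IsFinite μ ∧ IsPullback qN ν μ v ∧
      IsPullback v (pullback.snd f₀ (Spec.map (CommRingCat.ofHom (algebraMap A E))))
        (pullback.snd f₀ (Spec.map (CommRingCat.ofHom (algebraMap A R))))
        (Spec.map (CommRingCat.ofHom R.val.toRingHom)) := by
  classical
  let c := fgCone A E
  let i₀ : (Finset E)ᵒᵖ := op ∅
  let bE := Spec.map (CommRingCat.ofHom (algebraMap A E))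
  let R₀ : Subalgebra A E := Algebra.adjoin A ((∅ : Finset E) : Set E)
  let b₀ : (fgDiagram A E).obj i₀ ⟶ Spec (CommRingCat.of A) :=
    Spec.map (CommRingCat.ofHom (algebraMap A R₀))
  let g₀ : pullback f₀ b₀ ⟶ (fgDiagram A E).obj i₀ := pullback.snd f₀ b₀
  have hb₀ : c.π.app i₀ ≫ b₀ = bE := (Spec.map_comp _ _).symm
  let qY : pullback f₀ bE ⟶ pullback f₀ b₀ := pullback.lift (pullback.fst _ _)
    (pullback.snd f₀ bE ≫ c.π.app i₀) (by rw [Category.assoc, hb₀]; exact pullback.condition)
  have hY : IsPullback qY (pullback.snd f₀ bE) g₀ (c.π.app i₀) := by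
    refine IsPullback.of_right (h₁₂ := pullback.fst f₀ b₀) (v₁₃ := f₀) (h₂₂ := b₀) ?_
      (pullback.lift_snd _ _ _) (IsPullback.of_hasPullback f₀ b₀)
    rw [show qY ≫ pullback.fst f₀ b₀ = _ from pullback.lift_fst _ _ _, hb₀]
    exact IsPullback.of_hasPullback f₀ bE
  haveI : QuasiCompact g₀ := MorphismProperty.pullback_snd _ _ ‹_›
  haveI : QuasiSeparated g₀ := MorphismProperty.pullback_snd _ _ ‹_›
  haveI : CompactSpace ↥(pullback f₀ b₀) := QuasiCompact.compactSpace_of_compactSpace g₀
  haveI : QuasiSeparatedSpace ↥(pullback f₀ b₀) := quasiSeparatedSpace_of_quasiSeparated g₀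
  haveI : QuasiCompact (pullback.snd f₀ bE) := MorphismProperty.pullback_snd _ _ ‹_›
  haveI : QuasiSeparated (pullback.snd f₀ bE) := MorphismProperty.pullback_snd _ _ ‹_›
  haveI : CompactSpace ↥(pullback f₀ bE) := QuasiCompact.compactSpace_of_compactSpace (pullback.snd f₀ bE)
  haveI : QuasiSeparatedSpace ↥(pullback f₀ bE) :=
    quasiSeparatedSpace_of_quasiSeparated (pullback.snd f₀ bE)
  haveI : CompactSpace N := QuasiCompact.compactSpace_of_compactSpace ν
  haveI : QuasiSeparatedSpace N := quasiSeparatedSpace_of_quasiSeparated ν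
  obtain ⟨j, N₁, ν₁, gN, hlfp, _, _, hN⟩ := hasModel (isLimitBcCone (c := fgCone A E) (isLimitFgCone A E) hY) ν
  haveI := hlfp
  obtain ⟨j', φ, hfin⟩ := descends_isFinite (bcDiag (fgDiagram A E) i₀ g₀) (bcCone (c := fgCone A E) hY)
    (isLimitBcCone (c := fgCone A E) (isLimitFgCone A E) hY) (fun j k a => inferInstance) inferInstance inferInstance
    j N₁ ν₁ inferInstance inferInstance (inferInstance : LocallyOfFiniteType ν₁) N gN ν hN ‹IsFinite ν›
  let a := (bcDiag (fgDiagram A E) i₀ g₀).map φ
  let v' := (bcCone (c := fgCone A E) hY).π.app j'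
  have hv' : v' ≫ a = (bcCone (c := fgCone A E) hY).π.app j := (bcCone (c := fgCone A E) hY).w φ
  let qN : N ⟶ pullback ν₁ a := pullback.lift gN (ν ≫ v') (by rw [Category.assoc, hv']; exact hN.w)
  have hq : IsPullback qN ν (pullback.snd ν₁ a) v' := by
    refine IsPullback.of_right (h₁₂ := pullback.fst ν₁ a) (v₁₃ := ν₁) (h₂₂ := a) ?_
      (pullback.lift_snd _ _ _) (IsPullback.of_hasPullback ν₁ a)
    rw [show qN ≫ pullback.fst ν₁ a = gN from pullback.lift_fst _ _ _, hv']
    exact hN
  let R : Subalgebra A E := Algebra.adjoin A ((j'.left.unop : Finset E) : Set E)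
  let bR : Spec (CommRingCat.of R) ⟶ Spec (CommRingCat.of A) :=
    Spec.map (CommRingCat.ofHom (algebraMap A R))
  have hbR : (fgDiagram A E).map j'.hom ≫ b₀ = bR := (Spec.map_comp _ _).symm
  have hP : IsPullback (pullback.fst g₀ ((fgDiagram A E).map j'.hom) ≫ pullback.fst f₀ b₀)
      (pullback.snd g₀ ((fgDiagram A E).map j'.hom)) f₀ bR :=
    hbR ▸ (IsPullback.of_hasPullback g₀ _).paste_horiz (IsPullback.of_hasPullback f₀ b₀)
  let e := hP.isoPullback
  refine ⟨R, ⟨_, rfl⟩, pullback ν₁ a, pullback.snd ν₁ a ≫ e.hom, qN, v' ≫ e.hom, ?_, ?_, ?_⟩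
  · haveI := hfin
    infer_instance
  · exact hq.of_iso (Iso.refl _) (Iso.refl _) (Iso.refl _) e (by simp) (by simp) (by simp) (by simp)
  · have h := isPullback_bcCone (c := fgCone A E) hY j'
    exact h.of_iso (Iso.refl _) e (Iso.refl _) (Iso.refl _) (by simp [v']) (by simp [bE])
      ((Category.comp_id _).trans hP.isoPullback_hom_snd.symm) (by simp; rfl)

end Groth.Agent.FlatMor.GeomIntComp
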