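import Groth.Agent.S1629
import Groth.Agent.S1654
import Groth.Agent.GeomLoc.Reduced
import Groth.Agent.RedSub.Basic
import Groth.Agent.VarBC.Basic
import Mathlib.AlgebraicGeometry.Noetherian

/-!
# Geometrically integral components after a finite extension of the ground field
-/

set_option autoImplicit false
set_option linter.style.haveILetI false
universe u

open CategoryTheory Limits AlgebraicGeometry Topology TopologicalSpace

namespace Groth.Agent.FlatMor.GeomIntComp

open Groth.Agent.FBase.BC (specMap)

/-- A closed subset with the irreducible-components property pulls back along a surjective closed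
embedding. -/
theorem preimage_component {α β : Type*} [TopologicalSpace α] [TopologicalSpace β] {p : β → α}
    (hp : IsClosedEmbedding p) (hs : Function.Surjective p) {C : Set α}
    (hC : C ∈ irreducibleComponents α) : p ⁻¹' C ∈ irreducibleComponents β := by
  let e : β ≃ₜ α := hp.isEmbedding.toHomeomorphOfSurjective hs
  exact preimage_mem_irreducibleComponents hC e.isOpenEmbedding
    (by rw [hs.range_eq, Set.inter_univ]; exact hC.1.nonempty)

/-- A reduced scheme immersed onto an irreducible set is irreducible. -/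
theorem irreducibleSpace_of_range {T Y : Scheme.{u}} (j : T ⟶ Y) [IsClosedImmersion j]
    (h : IsIrreducible (Set.range j)) : IrreducibleSpace T := by
  obtain ⟨η, hη⟩ := QuasiSober.sober h j.isClosedEmbedding.isClosed_range
  obtain ⟨z, hz⟩ := hη.mem
  exact Groth.Agent.VarBC.irreducibleSpace_of_forall_specializes (z := z) fun y =>
    j.isEmbedding.isInducing.specializes_iff.mp (hz.symm ▸ hη.specializes ⟨y, rfl⟩)

/-- A component, with reduced structure, of a geometrically reduced scheme over a field is
geometrically reduced. -/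
theorem geometricallyReduced_component {L : Type u} [Field L] {R T : Scheme.{u}}
    (r : R ⟶ Spec (CommRingCat.of L)) [GeometricallyReduced r] [IsReduced R]
    (hfin : (irreducibleComponents R).Finite) (g : T ⟶ R) [IsClosedImmersion g] [IsReduced T]
    (hg : Set.range g ∈ irreducibleComponents R) : GeometricallyReduced (g ≫ r) := by
  haveI hT : IrreducibleSpace T := irreducibleSpace_of_range g hg.1
  let O : R.Opens := ⟨(⋃₀ (irreducibleComponents R \ {Set.range g}))ᶜ, by
    rw [isOpen_compl_iff, Set.sUnion_eq_biUnion]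
    exact hfin.sdiff.isClosed_biUnion fun W hW ↦ isClosed_of_mem_irreducibleComponents W hW.1⟩
  have hO : (O : Set R) ⊆ Set.range g := fun z hz => by
    by_contra h
    exact hz ⟨irreducibleComponent z, ⟨irreducibleComponent_mem_irreducibleComponents z,
      fun h' => h ((Set.mem_singleton_iff.1 h') ▸ mem_irreducibleComponent)⟩, mem_irreducibleComponent⟩
  have hne : (O : Set R).Nonempty := by
    obtain ⟨η, hη⟩ := QuasiSober.sober hg.1 g.isClosedEmbedding.isClosed_range
    refine ⟨η, ?_⟩
    rintro ⟨W, ⟨hW, hne'⟩, hηW⟩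
    refine hne' (Set.mem_singleton_iff.2 (subset_antisymm (hg.2 hW.1 ?_) ?_))
    all_goals
      rw [← hη.def]
      exact closure_minimal (Set.singleton_subset_iff.2 hηW)
        (isClosed_of_mem_irreducibleComponents W hW)
  haveI : Surjective (g ∣_ O) := ⟨fun z => by
    obtain ⟨t, ht⟩ := hO z.2
    refine ⟨⟨t, show g t ∈ O from ht ▸ z.2⟩, Subtype.ext ?_⟩
    rw [morphismRestrict_base_coe]
    exact ht⟩
  haveI : IsClosedImmersion (g ∣_ O) := MorphismProperty.of_isPullback
    (isPullback_morphismRestrict g O).flip inferInstance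
  haveI : IsIso (g ∣_ O) := isIso_of_isClosedImmersion_of_surjective _
  letI : T.Over (Spec (CommRingCat.of L)) := ⟨g ≫ r⟩
  have hU : GeometricallyReduced ((g ⁻¹ᵁ O).ι ≫ g ≫ r) := by
    rw [← morphismRestrict_ι_assoc, ← Category.assoc]
    exact Groth.Agent.FBase.BC.geometricallyReduced_comp_openImmersion ((g ∣_ O) ≫ O.ι) r
  have hUne : ((g ⁻¹ᵁ O : T.Opens) : Set T).Nonempty := by
    obtain ⟨z, hz⟩ := hne
    obtain ⟨t, rfl⟩ := hO hz
    exact ⟨t, hz⟩
  refine Groth.Agent.GeomLoc.geometricallyReduced_of_generic (X := T) fun Z hZ η hη => ?_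
  have hηU : η ∈ g ⁻¹ᵁ O := by
    rw [irreducibleComponents_eq_singleton] at hZ
    obtain rfl := hZ
    exact (hη.mem_open_set_iff (g ⁻¹ᵁ O).2).2 (by simpa using hUne)
  intro K _ _ x' hx'
  let b := Spec.map (CommRingCat.ofHom (algebraMap L K))
  let U := g ⁻¹ᵁ O
  haveI : IsReduced (pullback (U.ι ≫ g ≫ r) b) :=
    pullback_of_geometrically hU.geometrically_isReduced K b
  let m := pullback.map (U.ι ≫ g ≫ r) b (g ≫ r) b U.ι (𝟙 _) (𝟙 _) (by simp) (by simp)
  haveI : IsOpenImmersion m := inferInstance
  obtain ⟨w, rfl⟩ : x' ∈ Set.range m := by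
    simp only [m, Scheme.Pullback.range_map, Scheme.Opens.range_ι]
    exact ⟨show pullback.fst (g ≫ r) b x' ∈ (U : Set T) from hx' ▸ hηU, by simp⟩
  exact isReduced_of_injective (m.stalkMap w).hom
    ((ConcreteCategory.isIso_iff_bijective (m.stalkMap w)).1 inferInstance).1

/-- For a scheme of finite type over a field there is a finite extension after which all reduced
irreducible components are geometrically integral. -/
theorem exists_finite_extension {k : Type u} [Field k] {X : Scheme.{u}}
    (f : X ⟶ Spec (CommRingCat.of k)) [LocallyOfFiniteType f] [QuasiCompact f] :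
    ∃ (L : Type u) (_ : Field L) (_ : Algebra k L), FiniteDimensional k L ∧
      ∀ (T : Scheme.{u}) (j : T ⟶ pullback f (specMap k L)) [IsClosedImmersion j] [IsReduced T],
        Set.range j ∈ irreducibleComponents ↥(pullback f (specMap k L)) →
          GeometricallyIntegral (j ≫ pullback.snd f (specMap k L)) := by
  letI : X.Over (Spec (CommRingCat.of k)) := ⟨f⟩
  haveI : LocallyOfFiniteType (X ↘ Spec (CommRingCat.of k)) := ‹LocallyOfFiniteType f›
  haveI : IsLocallyNoetherian X := LocallyOfFiniteType.isLocallyNoetherian f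
  haveI : CompactSpace X := QuasiCompact.compactSpace_of_compactSpace f
  haveI : IsNoetherian X := {}
  obtain ⟨k₁, _, _, hfin₁, -, hR⟩ :=
    Groth.Agent.S1629.result k X NoetherianSpace.finite_irreducibleComponents
  let X₁ := Curv2.bc k X k₁
  let f₁ : X₁ ⟶ Spec (CommRingCat.of k₁) := pullback.snd f (specMap k k₁)
  letI : X₁.Over (Spec (CommRingCat.of k₁)) := ⟨f₁⟩
  haveI : LocallyOfFiniteType f₁ := MorphismProperty.pullback_snd _ _ ‹_›
  haveI : QuasiCompact f₁ := MorphismProperty.pullback_snd _ _ ‹_›
  haveI : LocallyOfFiniteType (X₁ ↘ Spec (CommRingCat.of k₁)) := ‹LocallyOfFiniteType f₁›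
  haveI : IsLocallyNoetherian X₁ := LocallyOfFiniteType.isLocallyNoetherian f₁
  haveI : CompactSpace X₁ := QuasiCompact.compactSpace_of_compactSpace f₁
  haveI : IsNoetherian X₁ := {}
  obtain ⟨L, _, _, hfin₂, -, hL⟩ :=
    Groth.Agent.S1654.result k₁ X₁ NoetherianSpace.finite_irreducibleComponents
  letI : Algebra k L := ((algebraMap k₁ L).comp (algebraMap k k₁)).toAlgebra
  haveI : IsScalarTower k k₁ L := IsScalarTower.of_algebraMap_eq fun _ => rfl
  refine ⟨L, inferInstance, inferInstance, FiniteDimensional.trans k k₁ L, fun T j _ _ hj => ?_⟩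
  let Y := pullback f₁ (specMap k₁ L)
  have hb : specMap k₁ L ≫ specMap k k₁ = specMap k L := by
    rw [← Spec.map_comp, ← CommRingCat.ofHom_comp]
  have hY : IsPullback (pullback.fst f₁ (specMap k₁ L) ≫ pullback.fst f (specMap k k₁))
      (pullback.snd f₁ (specMap k₁ L)) f (specMap k L) :=
    hb ▸ (IsPullback.of_hasPullback f₁ (specMap k₁ L)).paste_horiz
      (IsPullback.of_hasPullback f (specMap k k₁))
  let e := hY.isoPullback
  let j₁ : T ⟶ Y := j ≫ e.inv
  have hj₁ : j₁ ≫ pullback.snd f₁ (specMap k₁ L) = j ≫ pullback.snd f (specMap k L) := by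
    simp [j₁, e]
  have hj₁r : Set.range j₁ ∈ irreducibleComponents Y := by
    convert preimage_component e.hom.isClosedEmbedding e.hom.surjective hj using 1
    ext y
    constructor
    · rintro ⟨t, rfl⟩
      exact ⟨t, by rw [← Scheme.Hom.comp_apply]; simp [j₁]⟩
    · rintro ⟨t, ht⟩
      exact ⟨t, by simp only [j₁, Scheme.Hom.comp_apply, ht]; simp [← Scheme.Hom.comp_apply]⟩
  rw [← hj₁]
  -- geometrically irreducible
  haveI : GeometricallyIrreducible (j₁ ≫ pullback.snd f₁ (specMap k₁ L)) := by
    have h := hL (Set.range j₁) hj₁r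
    obtain ⟨i, hi⟩ := RedSub.exists_iso j₁ (Scheme.IdealSheafData.vanishingIdeal
      ⟨Set.range j₁, isClosed_of_mem_irreducibleComponents _ hj₁r⟩).subschemeι
        (RedSub.range_vanishingIdeal_subschemeι (⟨Set.range j₁, isClosed_of_mem_irreducibleComponents _ hj₁r⟩ : Closeds Y)).symm
    rw [← hi, Category.assoc]
    haveI : MorphismProperty.RespectsIso (@GeometricallyIrreducible : MorphismProperty Scheme.{u}) := by
      rw [GeometricallyIrreducible.eq_geometrically]
      exact MorphismProperty.IsStableUnderBaseChange.respectsIso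
    exact (MorphismProperty.cancel_left_of_respectsIso @GeometricallyIrreducible i.hom _).2 h
  -- geometrically reduced
  haveI : GeometricallyReduced (j₁ ≫ pullback.snd f₁ (specMap k₁ L)) := by
    let ι₁ := X₁.nilradical.subschemeι
    haveI : GeometricallyReduced (ι₁ ≫ f₁) := hR
    let R := pullback (ι₁ ≫ f₁) (specMap k₁ L)
    let φ : R ⟶ Y := pullback.map _ _ _ _ ι₁ (𝟙 _) (𝟙 _) (by simp) (by simp)
    have hφs : φ ≫ pullback.snd f₁ (specMap k₁ L) = pullback.snd (ι₁ ≫ f₁) (specMap k₁ L) := by
      exact (pullback.lift_snd _ _ _).trans (Category.comp_id _)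
    have hsq : IsPullback φ (pullback.fst (ι₁ ≫ f₁) (specMap k₁ L))
        (pullback.fst f₁ (specMap k₁ L)) ι₁ := by
      refine (IsPullback.of_right (h₁₂ := pullback.snd f₁ (specMap k₁ L)) (v₁₃ := specMap k₁ L)
        (h₂₂ := f₁) ?_ (pullback.lift_fst _ _ _)
        (IsPullback.of_hasPullback f₁ (specMap k₁ L)).flip).flip.flip
      rw [hφs]
      exact (IsPullback.of_hasPullback (ι₁ ≫ f₁) (specMap k₁ L)).flip
    haveI : IsClosedImmersion φ := MorphismProperty.of_isPullback hsq.flip inferInstance
    haveI : Surjective ι₁ := ⟨fun x => by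
      show x ∈ Set.range ι₁
      rw [Scheme.IdealSheafData.range_subschemeι, Scheme.support_nilradical]
      trivial⟩
    haveI : Surjective φ := MorphismProperty.of_isPullback hsq.flip ‹_›
    haveI : IsReduced R :=
      pullback_of_geometrically GeometricallyReduced.geometrically_isReduced L (specMap k₁ L)
    haveI : LocallyOfFiniteType (pullback.snd (ι₁ ≫ f₁) (specMap k₁ L)) :=
      MorphismProperty.pullback_snd _ _ inferInstance
    haveI : QuasiCompact (pullback.snd (ι₁ ≫ f₁) (specMap k₁ L)) :=
      MorphismProperty.pullback_snd _ _ inferInstance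
    haveI : IsLocallyNoetherian R :=
      LocallyOfFiniteType.isLocallyNoetherian (pullback.snd (ι₁ ≫ f₁) (specMap k₁ L))
    haveI : CompactSpace R :=
      QuasiCompact.compactSpace_of_compactSpace (pullback.snd (ι₁ ≫ f₁) (specMap k₁ L))
    haveI : IsNoetherian R := {}
    obtain ⟨g, hg⟩ := RedSub.exists_lift_closed φ j₁
      (by rw [φ.surjective.range_eq]; exact Set.subset_univ _)
    haveI : IsClosedImmersion (g ≫ φ) := by rw [hg]; infer_instance
    haveI : IsClosedImmersion g := .of_comp g φ
    have hgr : Set.range g ∈ irreducibleComponents R := by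
      convert preimage_component φ.isClosedEmbedding φ.surjective hj₁r using 1
      ext z
      constructor
      · rintro ⟨t, rfl⟩
        exact ⟨t, by rw [← Scheme.Hom.comp_apply, hg]⟩
      · rintro ⟨t, ht⟩
        exact ⟨t, φ.isClosedEmbedding.injective (by rw [← Scheme.Hom.comp_apply, hg]; exact ht)⟩
    rw [← hg, Category.assoc, hφs]
    exact geometricallyReduced_component _ NoetherianSpace.finite_irreducibleComponents g hgr
  exact GeometricallyIntegral.of_geometricallyReduced_of_geometricallyIrreducible _

end Groth.Agent.FlatMor.GeomIntComp
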