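import Groth.Agent.FlatMor.GeomIntComp.Spread
import Groth.Agent.FibCodepth.GeomRkScheme
import Groth.Agent.S7599
import Groth.Agent.S7600
import Groth.Prelude.Def_Pi1

/-!
# Spreading out flatness, geometric integrality and geometric normality from the generic fibre
-/

set_option autoImplicit false
set_option linter.style.haveILetI false
universe u

open CategoryTheory Limits AlgebraicGeometry Topology TopologicalSpace

namespace Groth.Agent.FlatMor.GeomIntComp

open Groth.Agent.FBase.BC (specMap)

/-- Normality of local rings is transported along open immersions. -/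
theorem normal_stalk_of_openImmersion {P Q : Scheme.{u}} (e : P ⟶ Q) [IsOpenImmersion e] (z : P)
    (h : IsDomain (Q.presheaf.stalk (e z)) ∧ IsIntegrallyClosed (Q.presheaf.stalk (e z))) :
    IsDomain (P.presheaf.stalk z) ∧ IsIntegrallyClosed (P.presheaf.stalk z) := by
  obtain ⟨_, _⟩ := h
  let r := (asIso (e.stalkMap z)).commRingCatIsoToRingEquiv
  exact ⟨r.symm.toMulEquiv.isDomain _, IsIntegrallyClosed.of_equiv r⟩

/-- Geometric normality of fibres at the points of a locus gives normality of field-valued base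
changes there. -/
theorem normal_of_locus {X Y : Scheme.{u}} (q : X ⟶ Y) (x : X)
    (h : ∀ (K : Type u) [Field K] [Algebra (IsLocalRing.ResidueField (Y.presheaf.stalk (q.base x))) K]
        (x' : ↥(FBase.bc (q.fiberToSpecResidueField (q.base x)) K)),
        (FBase.bcπ (q.fiberToSpecResidueField (q.base x)) K).base x' = q.asFiber x →
          (IsDomain ((FBase.bc (q.fiberToSpecResidueField (q.base x)) K).presheaf.stalk x') ∧
            IsIntegrallyClosed ((FBase.bc (q.fiberToSpecResidueField (q.base x)) K).presheaf.stalk x')))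
    (Ω : Type u) [Field Ω] (σ : Spec (CommRingCat.of Ω) ⟶ Y) {P : Scheme.{u}} {fst : P ⟶ X}
    {snd : P ⟶ Spec (CommRingCat.of Ω)} (sq : IsPullback fst snd q σ) (z : P) (hz : fst z = x) :
    IsDomain (P.presheaf.stalk z) ∧ IsIntegrallyClosed (P.presheaf.stalk z) := by
  obtain ⟨⟨s, φ⟩, hs⟩ := (Scheme.SpecToEquivOfField Ω Y).symm.surjective σ
  have hs' : Spec.map φ ≫ Y.fromSpecResidueField s = σ := hs
  obtain rfl : s = q x := by
    rw [← hz, ← Scheme.Hom.comp_apply, sq.w, ← hs', ← Category.assoc, Scheme.Hom.comp_apply]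
    exact (Scheme.fromSpecResidueField_apply _ _).symm
  let l : P ⟶ q.fiber (q x) :=
    pullback.lift fst (snd ≫ Spec.map φ) (by rw [sq.w, Category.assoc, hs'])
  have hlι : l ≫ q.fiberι (q x) = fst := pullback.lift_fst _ _ _
  have hl : IsPullback l snd (q.fiberToSpecResidueField (q x)) (Spec.map φ) := by
    refine IsPullback.of_right (h₁₂ := q.fiberι _) (v₁₃ := q) (h₂₂ := Y.fromSpecResidueField _) ?_
      (pullback.lift_snd _ _ _) (IsPullback.of_hasPullback q _)
    rw [hlι, hs']
    exact sq
  letI : Algebra (IsLocalRing.ResidueField (Y.presheaf.stalk (q.base x))) Ω := φ.hom.toAlgebra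
  refine normal_stalk_of_openImmersion hl.isoPullback.hom z (h Ω _ ?_)
  change (hl.isoPullback.hom ≫ pullback.fst (q.fiberToSpecResidueField (q x)) (Spec.map φ)) z = _
  rw [hl.isoPullback_hom_fst]
  refine (q.fiberι _).isEmbedding.injective ?_
  rw [← Scheme.Hom.comp_apply, hlι, hz, Scheme.Hom.fiberι_asFiber]

/-- If the base change of a fibre to an algebraically closed field is normal, the fibre is
geometrically normal. -/
theorem geomNormal_of_geometric {k Ω : Type u} [Field k] [Field Ω] [IsAlgClosed Ω] [Algebra k Ω]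
    {F : Scheme.{u}} (g : F ⟶ Spec (CommRingCat.of k)) (hn : Pi1.IsNormalScheme (pullback g (specMap k Ω)))
    (K : Type u) [Field K] [Algebra k K] (y : ↥(FBase.bc g K)) :
    IsDomain ((FBase.bc g K).presheaf.stalk y) ∧ IsIntegrallyClosed ((FBase.bc g K).presheaf.stalk y) := by
  letI : F.Over (Spec (CommRingCat.of k)) := ⟨g⟩
  haveI : Surjective (pullback.fst g (specMap k Ω)) := Groth.Agent.FBase.BC.surjective_pullback_fst g
  obtain ⟨x', hx'⟩ := (pullback.fst g (specMap k Ω)).surjective (FBase.bcπ g K y)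
  refine Groth.Agent.S7600.result k F Ω x' ?_ K y hx'.symm
  letI : (Curv2.bc k F Ω).Over (Spec (CommRingCat.of Ω)) := ⟨Curv2.bcSnd k F Ω⟩
  intro k'' _ _ x'' hx''
  refine (Groth.Agent.S7599.result Ω (Curv2.bc k F Ω) x').1.2 ?_ k'' x'' hx''
  intro M _ _ _ _ z _
  haveI : IsIso (Spec.map (CommRingCat.ofHom (algebraMap Ω M))) := by
    haveI : IsIso (CommRingCat.ofHom (algebraMap Ω M)) :=
      (ConcreteCategory.isIso_iff_bijective _).2 IsAlgClosed.algebraMap_bijective_of_isIntegral
    infer_instance
  exact normal_stalk_of_openImmersion (Curv2.bcFst Ω (Curv2.bc k F Ω) M) z (hn _)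

variable {N S' : Scheme.{u}} [IsIntegral S'] [IsNoetherian S'] (q : N ⟶ S') [LocallyOfFiniteType q]
  [QuasiCompact q] {Ω : Type u} [Field Ω] [IsAlgClosed Ω] (t : Spec (CommRingCat.of Ω) ⟶ S')

/-- A morphism whose geometric generic fibre is integral and normal is, near the generic point,
flat with geometrically integral and geometrically normal fibres. -/
theorem exists_open_normal (ht : ∀ z, t z = genericPoint S')
    (hint : IsIntegral (pullback q t)) (hnor : Pi1.IsNormalScheme (pullback q t)) :
    ∃ U : S'.Opens, genericPoint S' ∈ U ∧ ∀ (W S'' : Scheme.{u}) (w : W ⟶ N) (h : W ⟶ S'')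
      (u : S'' ⟶ S'), IsPullback w h q u → Set.range u ⊆ U → Flat h ∧ GeometricallyIntegral h ∧
        ∀ (K : Type u) [Field K] (σ : Spec (CommRingCat.of K) ⟶ S''), Pi1.IsNormalScheme (pullback h σ) := by
  haveI : LocallyOfFinitePresentation q :=
    LocallyOfFinitePresentation.iff_locallyOfFiniteType.mpr inferInstance
  haveI := hint
  haveI : IsLocallyNoetherian N := LocallyOfFiniteType.isLocallyNoetherian q
  haveI : CompactSpace N := QuasiCompact.compactSpace_of_compactSpace q
  haveI : IsNoetherian N := {}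
  haveI : GeometricallyReduced (pullback.snd q t) :=
    Groth.Agent.FBase.BC.geometricallyReduced_of_isReduced_of_perfectField _
  haveI : GeometricallyIrreducible (pullback.snd q t) :=
    Groth.Agent.FBase.BC.geometricallyIrreducible_of_isSepClosed _
  obtain ⟨hred, hirr⟩ := fibre_of_fieldPoint q t (genericPoint S') ht
    (GeometricallyIntegral.of_geometricallyReduced_of_geometricallyIrreducible _)
  obtain ⟨V₁, hV₁, hV₁i⟩ := Groth.Agent.S0419.result q hirr
  obtain ⟨V₂, hV₂, hV₂r⟩ :=
    Groth.Agent.FibCodepth.exists_opens_of_mem (Groth.Agent.S1301.result q) hred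
  obtain ⟨V₃, -, hV₃, hV₃f, -⟩ := FlatMisc.GenericFlat.exists_open q ⊤ ⟨genericPoint S', trivial⟩
  -- the locus of geometrically normal fibres
  have hbad : genericPoint S' ∈ (q '' {x : N | ∀ (K : Type u) [Field K]
      [Algebra (IsLocalRing.ResidueField (S'.presheaf.stalk (q.base x))) K]
      (x' : ↥(FBase.bc (q.fiberToSpecResidueField (q.base x)) K)),
      (FBase.bcπ (q.fiberToSpecResidueField (q.base x)) K).base x' = q.asFiber x →
        (IsDomain ((FBase.bc (q.fiberToSpecResidueField (q.base x)) K).presheaf.stalk x') ∧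
          IsIntegrallyClosed ((FBase.bc (q.fiberToSpecResidueField (q.base x)) K).presheaf.stalk x'))}ᶜ)ᶜ := by
    rintro ⟨x, hx, hxη⟩
    apply hx
    intro K _ _ x' _
    obtain ⟨⟨s, φ⟩, hs⟩ := (Scheme.SpecToEquivOfField Ω S').symm.surjective t
    have hs' : Spec.map φ ≫ S'.fromSpecResidueField s = t := hs
    obtain rfl : s = q x := by
      rw [hxη, ← ht (IsLocalRing.closedPoint Ω), ← hs', Scheme.Hom.comp_apply]
      exact (Scheme.fromSpecResidueField_apply _ _).symm
    let : Algebra (IsLocalRing.ResidueField (S'.presheaf.stalk (q x))) Ω := φ.hom.toAlgebra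
    refine geomNormal_of_geometric (Ω := Ω) (q.fiberToSpecResidueField (q x)) ?_ K x'
    have hsq := hs' ▸ (IsPullback.of_hasPullback (q.fiberToSpecResidueField (q x)) (Spec.map φ)).paste_horiz
      (IsPullback.of_hasPullback q (S'.fromSpecResidueField (q x)))
    exact fun z => normal_stalk_of_openImmersion hsq.isoPullback.hom z (hnor _)
  obtain ⟨V₄, hV₄, hV₄n⟩ := Groth.Agent.FibCodepth.exists_opens_of_mem
    ((q.isLocallyConstructible_image
      ((Groth.Agent.FibCodepth.isLocallyConstructible_geomNormal q).isConstructible.compl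
        ).isLocallyConstructible).isConstructible.compl).isLocallyConstructible hbad
  have hgen : ∀ V : S'.Opens, (V : Set S').Nonempty → genericPoint S' ∈ V := fun V hV =>
    ((genericPoint_spec S').mem_open_set_iff V.2).2 (by simpa using hV)
  refine ⟨V₁ ⊓ V₂ ⊓ V₃ ⊓ V₄, ⟨⟨⟨hgen _ hV₁, hV₂⟩, hgen _ hV₃⟩, hV₄⟩, fun W S'' w h u sq hu => ?_⟩
  haveI : GeometricallyReduced h :=
    geometricallyReduced_of_fibres sq fun s => hV₂r (hu ⟨s, rfl⟩).1.1.2
  haveI : GeometricallyIrreducible h :=
    of_range_le @GeometricallyIrreducible hV₁i sq fun z hz => (hu hz).1.1.1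
  refine ⟨of_range_le @Flat hV₃f sq fun z hz => (hu hz).1.2,
    GeometricallyIntegral.of_geometricallyReduced_of_geometricallyIrreducible h, fun K _ σ z => ?_⟩
  refine normal_of_locus q _ ?_ K (σ ≫ u)
    ((IsPullback.of_hasPullback h σ).paste_horiz sq) z rfl
  by_contra hne
  refine hV₄n (hu ⟨σ (pullback.snd h σ z), rfl⟩).2 ⟨_, hne, ?_⟩
  rw [← Scheme.Hom.comp_apply, ← Scheme.Hom.comp_apply, ← Scheme.Hom.comp_apply, Category.assoc, sq.w,
    pullback.condition_assoc]

end Groth.Agent.FlatMor.GeomIntComp
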