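import Groth.Agent.FlatMor.GeomIntComp.Field
import Groth.Agent.FlatMor.GenericPts
import Groth.Agent.FlatMisc.GenericFlat
import Groth.Agent.FlatMisc.ValuationRed
import Groth.Agent.FibCodepth.GenTop
import Groth.Agent.FBase.BC
import Groth.Agent.S0419
import Groth.Agent.S1301

/-!
# Spreading out geometrically integral components
-/

set_option autoImplicit false
set_option linter.style.haveILetI false
universe u

open CategoryTheory Limits AlgebraicGeometry Topology TopologicalSpace

namespace Groth.Agent.FlatMor.GeomIntComp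

open Groth.Agent.FBase.BC (specMap)

/-- A property stable under base change holds after base change along a map into an open where it
holds. -/
theorem of_range_le (P : MorphismProperty Scheme.{u}) [P.IsStableUnderBaseChange]
    {X S W S'' : Scheme.{u}} {q : X ⟶ S} {V : S.Opens} (hV : P (q ∣_ V)) {w : W ⟶ X} {h : W ⟶ S''}
    {u : S'' ⟶ S} (sq : IsPullback w h q u) (hu : Set.range u ⊆ V) : P h := by
  let u' := IsOpenImmersion.lift V.ι u (by rwa [Scheme.Opens.range_ι])
  have hu' : u' ≫ V.ι = u := IsOpenImmersion.lift_fac _ _ _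
  have hw : Set.range w ⊆ Set.range (q ⁻¹ᵁ V).ι := by
    rw [Scheme.Opens.range_ι]
    rintro _ ⟨z, rfl⟩
    show q (w z) ∈ V
    rw [← Scheme.Hom.comp_apply, sq.w]
    exact hu ⟨h z, rfl⟩
  let w' := IsOpenImmersion.lift (q ⁻¹ᵁ V).ι w hw
  have hw' : w' ≫ (q ⁻¹ᵁ V).ι = w := IsOpenImmersion.lift_fac _ _ _
  refine MorphismProperty.of_isPullback (P := P) (f := u') (f' := w') ?_ hV
  refine IsPullback.of_right (h₁₂ := (q ⁻¹ᵁ V).ι) (v₁₃ := q) (h₂₂ := V.ι) ?_ ?_
    (isPullback_morphismRestrict q V).flip
  · rw [hw', hu']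
    exact sq
  · rw [← cancel_mono V.ι, Category.assoc, morphismRestrict_ι, reassoc_of% hw', Category.assoc, hu',
      sq.w]

/-- Geometric reducedness is inherited from the fibres of a larger morphism. -/
theorem geometricallyReduced_of_fibres {X S W S'' : Scheme.{u}} {q : X ⟶ S} {w : W ⟶ X} {h : W ⟶ S''}
    {u : S'' ⟶ S} (sq : IsPullback w h q u)
    (H : ∀ s, GeometricallyReduced (q.fiberToSpecResidueField (u s))) : GeometricallyReduced h := by
  refine ⟨fun K _ y Z fst snd hZ => ?_⟩
  obtain ⟨⟨s, φ⟩, hs⟩ := (Scheme.SpecToEquivOfField K S).symm.surjective (y ≫ u)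
  have hs' : Spec.map φ ≫ S.fromSpecResidueField s = y ≫ u := hs
  have hsu : s = u (y (IsLocalRing.closedPoint K)) := by
    rw [← Scheme.Hom.comp_apply, ← hs', Scheme.Hom.comp_apply]
    exact (Scheme.fromSpecResidueField_apply _ _).symm
  haveI : GeometricallyReduced (q.fiberToSpecResidueField s) := hsu ▸ H _
  have hsq : IsPullback (fst ≫ w) snd q (y ≫ u) := hZ.paste_horiz sq
  let l : Z ⟶ q.fiber s :=
    pullback.lift (fst ≫ w) (snd ≫ Spec.map φ) (by rw [hsq.w, Category.assoc, hs'])
  have hl : IsPullback l snd (q.fiberToSpecResidueField s) (Spec.map φ) := by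
    refine IsPullback.of_right (h₁₂ := q.fiberι _) (v₁₃ := q) (h₂₂ := S.fromSpecResidueField s) ?_
      (pullback.lift_snd _ _ _) (IsPullback.of_hasPullback q _)
    rw [show l ≫ q.fiberι _ = fst ≫ w from pullback.lift_fst _ _ _, hs']
    exact hsq
  exact GeometricallyReduced.geometrically_isReduced (Spec.map φ) _ _ hl

/-- The fibre at a point is geometrically integral if the base change to a field point is. -/
theorem fibre_of_fieldPoint {X S : Scheme.{u}} (q : X ⟶ S) {L : Type u} [Field L]
    (t : Spec (CommRingCat.of L) ⟶ S) (s : S) (hs : ∀ z, t z = s)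
    (h : GeometricallyIntegral (pullback.snd q t)) :
    GeometricallyReduced (q.fiberToSpecResidueField s) ∧
      GeometricallyIrreducible (q.fiberToSpecResidueField s) := by
  obtain ⟨⟨s', φ⟩, hφ⟩ := (Scheme.SpecToEquivOfField L S).symm.surjective t
  have hφ' : Spec.map φ ≫ S.fromSpecResidueField s' = t := hφ
  obtain rfl : s' = s := by
    rw [← hs (IsLocalRing.closedPoint L), ← hφ', Scheme.Hom.comp_apply]
    exact (Scheme.fromSpecResidueField_apply _ _).symm
  letI : Algebra (S.residueField s') L := φ.hom.toAlgebra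
  let a := specMap (S.residueField s') L
  have hsq : IsPullback (pullback.fst (q.fiberToSpecResidueField s') a ≫ q.fiberι s')
      (pullback.snd (q.fiberToSpecResidueField s') a) q t :=
    hφ' ▸ (IsPullback.of_hasPullback (q.fiberToSpecResidueField s') a).paste_horiz
      (IsPullback.of_hasPullback q (S.fromSpecResidueField s'))
  haveI : MorphismProperty.RespectsIso (@GeometricallyIntegral : MorphismProperty Scheme.{u}) :=
    MorphismProperty.IsStableUnderBaseChange.respectsIso
  haveI : GeometricallyIntegral (pullback.snd (q.fiberToSpecResidueField s') a) := by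
    rw [← hsq.isoPullback_hom_snd]
    exact (MorphismProperty.cancel_left_of_respectsIso @GeometricallyIntegral _ _).2 h
  exact ⟨(@Groth.Agent.FBase.BC.geometricallyReduced_iff (S.residueField s') _ L _ φ.hom.toAlgebra _
      (q.fiberToSpecResidueField s')).2 inferInstance,
    (@Groth.Agent.FBase.BC.geometricallyIrreducible_iff (S.residueField s') _ L _ φ.hom.toAlgebra _
      (q.fiberToSpecResidueField s')).2 inferInstance⟩

variable {X' S' : Scheme.{u}} [IsIntegral S'] [IsNoetherian S'] (g : X' ⟶ S') [LocallyOfFiniteType g]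
  [QuasiCompact g] {L : Type u} [Field L] (t : Spec (CommRingCat.of L) ⟶ S') [IsPreimmersion t] [Flat t]

/-- An open around the generic point over which a given component is flat with geometrically integral
fibres, or does not appear. -/
theorem exists_open_component (ht : ∀ z, t z = genericPoint S')
    (H : ∀ (T : Scheme.{u}) (j : T ⟶ pullback g t) [IsClosedImmersion j] [IsReduced T],
      Set.range j ∈ irreducibleComponents ↥(pullback g t) →
        GeometricallyIntegral (j ≫ pullback.snd g t))
    {C : Set X'} (hC : C ∈ irreducibleComponents X') {x : X'} (hx : IsGenericPoint x C) :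
    ∃ U : S'.Opens, genericPoint S' ∈ U ∧ (g x ∈ U →
      let j := (Scheme.IdealSheafData.vanishingIdeal
        ⟨C, isClosed_of_mem_irreducibleComponents C hC⟩).subschemeι
      ∀ (W S'' : Scheme.{u}) (w : W ⟶ _) (h : W ⟶ S'') (u : S'' ⟶ S'),
        IsPullback w h (j ≫ g) u → Set.range u ⊆ U → Flat h ∧ GeometricallyIntegral h) := by
  by_cases hgx : g x = genericPoint S'
  swap
  · refine ⟨⟨(closure {g x})ᶜ, isClosed_closure.isOpen_compl⟩, fun h => hgx ?_,
      fun h => (h (subset_closure rfl)).elim⟩
    exact ((genericPoint_specializes _).antisymm (specializes_iff_mem_closure.2 h)).eq.symm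
  let Cc : Closeds X' := ⟨C, isClosed_of_mem_irreducibleComponents C hC⟩
  let j := (Scheme.IdealSheafData.vanishingIdeal Cc).subschemeι
  have hjr : Set.range j = C := RedSub.range_vanishingIdeal_subschemeι Cc
  haveI := RedSub.isReduced_vanishingIdeal Cc
  haveI : IrreducibleSpace (Scheme.IdealSheafData.vanishingIdeal Cc).subscheme :=
    irreducibleSpace_of_range j (hjr ▸ hC.1)
  let q := j ≫ g
  haveI : LocallyOfFinitePresentation q := LocallyOfFinitePresentation.iff_locallyOfFiniteType.mpr
    inferInstance
  -- the generic fibre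
  let p := pullback.fst g t
  let jL : pullback q t ⟶ pullback g t :=
    pullback.map q t g t j (𝟙 _) (𝟙 _) (by simp [q]) (by simp)
  have hjs : jL ≫ pullback.snd g t = pullback.snd q t :=
    (pullback.lift_snd _ _ _).trans (Category.comp_id _)
  have hsq : IsPullback jL (pullback.fst q t) p j := by
    refine (IsPullback.of_right (h₁₂ := pullback.snd g t) (v₁₃ := t) (h₂₂ := g) ?_
      (pullback.lift_fst _ _ _) (IsPullback.of_hasPullback g t).flip).flip.flip
    rw [hjs]
    exact (IsPullback.of_hasPullback q t).flip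
  haveI : IsClosedImmersion jL := MorphismProperty.of_isPullback hsq.flip inferInstance
  haveI : Flat (pullback.fst q t) := MorphismProperty.pullback_fst _ _ ‹_›
  haveI : IsPreimmersion (pullback.fst q t) := MorphismProperty.pullback_fst _ _ ‹_›
  haveI : IsPreimmersion p := MorphismProperty.pullback_fst _ _ ‹_›
  haveI : IsReduced (pullback q t) := FlatMisc.ValuationRed.isReduced_of_flat_preimmersion (pullback.fst q t)
  obtain ⟨x', hx'⟩ : x ∈ Set.range p := by
    rw [Scheme.Pullback.range_fst]
    exact ⟨IsLocalRing.closedPoint L, (ht _).trans hgx.symm⟩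
  have hjLr : Set.range jL = closure {x'} := by
    ext y
    rw [Scheme.Pullback.range_map, ← specializes_iff_mem_closure,
      ← p.isEmbedding.isInducing.specializes_iff, hx']
    simp only [(𝟙 (Spec (CommRingCat.of L)) : Spec (CommRingCat.of L) ⟶ _).surjective.range_eq,
      Set.mem_inter_iff, Set.mem_preimage, hjr, Set.mem_univ, and_true]
    rw [← hx.def, ← specializes_iff_mem_closure]
  have hcomp : Set.range jL ∈ irreducibleComponents ↥(pullback g t) := by
    rw [hjLr, GenericPts.closure_mem_irreducibleComponents_iff]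
    intro z hz
    rw [← hx.def, GenericPts.closure_mem_irreducibleComponents_iff] at hC
    rw [← p.isEmbedding.isInducing.specializes_iff, hx']
    exact hC _ (hx' ▸ hz.map p.continuous)
  obtain ⟨hred, hirr⟩ := fibre_of_fieldPoint q t (genericPoint S') ht (hjs ▸ H _ jL hcomp)
  obtain ⟨V₁, hV₁, hV₁i⟩ := Groth.Agent.S0419.result q hirr
  obtain ⟨V₂, hV₂, hV₂r⟩ :=
    Groth.Agent.FibCodepth.exists_opens_of_mem (Groth.Agent.S1301.result q) hred
  obtain ⟨V₃, -, hV₃, hV₃f, -⟩ := FlatMisc.GenericFlat.exists_open q ⊤ ⟨genericPoint S', trivial⟩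
  have hgen : ∀ V : S'.Opens, (V : Set S').Nonempty → genericPoint S' ∈ V := fun V hV =>
    ((genericPoint_spec S').mem_open_set_iff V.2).2 (by simpa using hV)
  refine ⟨V₁ ⊓ V₂ ⊓ V₃, ⟨⟨hgen _ hV₁, hV₂⟩, hgen _ hV₃⟩, fun _ => ?_⟩
  intro _ W S'' w h u sq hu
  refine ⟨of_range_le @Flat hV₃f sq fun z hz => (hu hz).2, ?_⟩
  haveI : GeometricallyReduced h :=
    geometricallyReduced_of_fibres sq fun s => hV₂r (hu ⟨s, rfl⟩).1.2
  haveI : GeometricallyIrreducible h :=
    of_range_le @GeometricallyIrreducible hV₁i sq fun z hz => (hu hz).1.1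
  exact GeometricallyIntegral.of_geometricallyReduced_of_geometricallyIrreducible h

/-- Geometrically integral components of the generic fibre spread out. -/
theorem exists_open_good (ht : ∀ z, t z = genericPoint S')
    (H : ∀ (T : Scheme.{u}) (j : T ⟶ pullback g t) [IsClosedImmersion j] [IsReduced T],
      Set.range j ∈ irreducibleComponents ↥(pullback g t) →
        GeometricallyIntegral (j ≫ pullback.snd g t)) :
    ∃ U : S'.Opens, genericPoint S' ∈ U ∧ ∀ (S'' X'' : Scheme.{u}) (u : S'' ⟶ S') (v : X'' ⟶ X')
      (g'' : X'' ⟶ S'') [IsOpenImmersion u], Set.range u ⊆ U → IsPullback v g'' g u →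
      ∀ (Z : Scheme.{u}) (i : Z ⟶ X'') [IsClosedImmersion i] [IsReduced Z],
        Set.range i ∈ irreducibleComponents X'' → Flat (i ≫ g'') ∧ GeometricallyIntegral (i ≫ g'') := by
  haveI : IsLocallyNoetherian X' := LocallyOfFiniteType.isLocallyNoetherian g
  haveI : CompactSpace X' := QuasiCompact.compactSpace_of_compactSpace g
  haveI : IsNoetherian X' := {}
  have hfin : (irreducibleComponents X').Finite := NoetherianSpace.finite_irreducibleComponents
  haveI := hfin.to_subtype
  choose x hx using fun C : irreducibleComponents X' =>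
    QuasiSober.sober C.2.1 (isClosed_of_mem_irreducibleComponents C.1 C.2)
  choose U hU hUgood using fun C : irreducibleComponents X' => exists_open_component g t ht H C.2 (hx C)
  refine ⟨⟨⋂ C, (U C : Set S'), isOpen_iInter_of_finite fun C => (U C).2⟩,
    Set.mem_iInter.2 hU, ?_⟩
  intro S'' X'' u v g'' _ hu sq Z i _ _ hi
  haveI : IsOpenImmersion v := MorphismProperty.of_isPullback sq.flip inferInstance
  obtain ⟨x'', hx''⟩ := QuasiSober.sober hi.1 i.isClosedEmbedding.isClosed_range
  let C : Set X' := closure {v x''}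
  have hC : C ∈ irreducibleComponents X' := by
    rw [GenericPts.closure_mem_irreducibleComponents_iff]
    intro z hz
    obtain ⟨z'', rfl⟩ := hz.mem_open v.isOpenEmbedding.isOpen_range ⟨x'', rfl⟩
    rw [← hx''.def, GenericPts.closure_mem_irreducibleComponents_iff] at hi
    exact (hi z'' (v.isEmbedding.isInducing.specializes_iff.1 hz)).map v.continuous
  have hxC : x ⟨C, hC⟩ = v x'' := (hx ⟨C, hC⟩).eq (IsGenericPoint.def (S := C) isGenericPoint_closure) ▸ rfl
  have hgood := hUgood ⟨C, hC⟩ (by
    rw [hxC, ← Scheme.Hom.comp_apply, sq.w]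
    exact Set.mem_iInter.1 (hu ⟨g'' x'', rfl⟩) _)
  let j := (Scheme.IdealSheafData.vanishingIdeal
    ⟨C, isClosed_of_mem_irreducibleComponents C hC⟩).subschemeι
  haveI := RedSub.isReduced_vanishingIdeal (X := X') ⟨C, isClosed_of_mem_irreducibleComponents C hC⟩
  haveI : IsClosedImmersion (pullback.snd j v) := MorphismProperty.pullback_snd _ _ inferInstance
  haveI : IsOpenImmersion (pullback.fst j v) := inferInstance
  haveI : IsReduced (pullback j v) := isReduced_of_isOpenImmersion (pullback.fst j v)
  obtain ⟨e, he⟩ := RedSub.exists_iso i (pullback.snd j v) (by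
    rw [Scheme.Pullback.range_snd, RedSub.range_vanishingIdeal_subschemeι, ← hx''.def]
    ext y
    simp only [Set.mem_preimage, Closeds.coe_mk, C, ← specializes_iff_mem_closure]
    exact (v.isEmbedding.isInducing.specializes_iff).symm)
  obtain ⟨hf, hg⟩ := hgood (pullback j v) S'' (pullback.fst j v) (pullback.snd j v ≫ g'') u
    ((IsPullback.of_hasPullback j v).paste_vert sq) fun z hz => Set.mem_iInter.1 (hu hz) _
  rw [← he, Category.assoc]
  haveI : MorphismProperty.RespectsIso (@GeometricallyIntegral : MorphismProperty Scheme.{u}) :=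
    MorphismProperty.IsStableUnderBaseChange.respectsIso
  exact ⟨inferInstance,
    (MorphismProperty.cancel_left_of_respectsIso @GeometricallyIntegral e.hom _).2 hg⟩

end Groth.Agent.FlatMor.GeomIntComp
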